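import Cfsg.Agent.J4Maximal.P29.Checks
import Cfsg.Agent.J4Eleven.Main

/-!
The elements behind the finite checks for the prime 29.
-/

set_option autoImplicit false
set_option maxRecDepth 8000
set_option synthInstance.maxSize 4000
set_option linter.style.haveILetI false

namespace Cfsg.Lib.J4Maximal.P29

open Cfsg Cfsg.Lib.J4Cert Cfsg.Lib.J4Eleven Subgroup

attribute [local irreducible] mB mPow nd pnode ptabs ptab tabs4 vt leq pm ndTab sevExp xExp

theorem nd_mem : ∀ j < 553, ∃ g, MOK g (nd j) := by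
  have h0 : ∀ j < 4, ∃ g, MOK g (nd j) := fun j hj => ⟨letG j, nd_low j hj ▸ letM_ok j⟩
  have h1 : ∀ j < 84, ∃ g, MOK g (nd j) := progOK_sound nd_low ndProg0 4 prog0_ok h0
  have h2 : ∀ j < 164, ∃ g, MOK g (nd j) := progOK_sound nd_low ndProg1 84 prog1_ok h1
  have h3 : ∀ j < 244, ∃ g, MOK g (nd j) := progOK_sound nd_low ndProg2 164 prog2_ok h2
  have h4 : ∀ j < 324, ∃ g, MOK g (nd j) := progOK_sound nd_low ndProg3 244 prog3_ok h3
  have h5 : ∀ j < 404, ∃ g, MOK g (nd j) := progOK_sound nd_low ndProg4 324 prog4_ok h4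
  have h6 : ∀ j < 484, ∃ g, MOK g (nd j) := progOK_sound nd_low ndProg5 404 prog5_ok h5
  have h7 : ∀ j < 553, ∃ g, MOK g (nd j) := progOK_sound nd_low ndProg6 484 prog6_ok h6
  exact h7

/-- The element of a node. -/
noncomputable def nel (j : ℕ) : Spor.J4 := if h : j < 553 then (nd_mem j h).choose else 1

/-- The element of a pool entry. -/
noncomputable def pe (k : ℕ) : Spor.J4 := nel (pnode.getD k 0)

theorem pool_lt {k : ℕ} (hk : k < 5) : pnode.getD k 0 < 553 ∧ tabs4 (pm k) = ptab k := by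
  have h := pool_ok
  simp only [poolOK, List.all_eq_true, List.mem_range, Bool.and_eq_true, decide_eq_true_eq] at h
  exact ⟨(h k hk).1, leq_eq (h k hk).2⟩

theorem pe_ok {k : ℕ} (hk : k < 5) : MOK (pe k) (pm k) := by
  unfold pe nel pm
  rw [dif_pos (pool_lt hk).1]
  exact (nd_mem _ (pool_lt hk).1).choose_spec

/-- The value of a word. -/
noncomputable def ev (l : List ℕ) : Spor.J4 := (l.map pe).prod

theorem ev_nil : ev [] = 1 := rfl

theorem ev_cons (k : ℕ) (l : List ℕ) : ev (k :: l) = pe k * ev l := List.prod_cons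

theorem ev_append (l m : List ℕ) : ev (l ++ m) = ev l * ev m := by
  rw [ev, List.map_append, List.prod_append]
  rfl

/-- The image of a vector. -/
noncomputable def img (g : Spor.J4) (z : J4Rep.Vec) : J4Rep.Vec := (rhoG g).symm z

theorem img_mul (g h : Spor.J4) (z : J4Rep.Vec) : img (g * h) z = img h (img g z) := by
  unfold img
  rw [map_mul]
  rfl

theorem img_one (z : J4Rep.Vec) : img 1 z = z := by
  unfold img
  rw [map_one]
  rfl

theorem img_pe {k : ℕ} (hk : k < 5) (z : J4Rep.Vec) : (img (pe k) z).1 = vt (ptab k) z.1 := by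
  unfold img
  have hok := (pe_ok hk).1
  simp only [okMat, Bool.and_eq_true, List.all_eq_true, decide_eq_true_eq] at hok
  rw [(pe_ok hk).2 z, ← (pool_lt hk).2, vt_eq _ _ hok.2 (by rw [Nat.eq_of_beq_eq_true hok.1])]

theorem act_eq : ∀ (l : List ℕ), (∀ k ∈ l, k < 5) → ∀ z : J4Rep.Vec, act l z.1 = (img (ev l) z).1
  | [], _, z => by rw [ev_nil, img_one]; rfl
  | k :: l, hl, z => by
    rw [ev_cons, img_mul, act, ← img_pe (hl k List.mem_cons_self) z]
    exact act_eq l (fun j hj => hl j (List.mem_cons_of_mem _ hj)) _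

theorem rep_eq (l : List ℕ) (hl : ∀ k ∈ l, k < 5) : ∀ (n : ℕ) (z : J4Rep.Vec),
    rep l n z.1 = (img (ev l ^ n) z).1
  | 0, z => by rw [pow_zero (ev l), img_one]; rfl
  | n + 1, z => by
    rw [pow_succ' (ev l) n, img_mul, rep, act_eq l hl z]
    exact rep_eq l hl n _

/-- A vector certificate for a prime dividing the order. -/
theorem dvd_order {l : List ℕ} (hl : ∀ k ∈ l, k < 5) {q z : ℕ} (hq : q.Prime) (hz : z < 2 ^ 112)
    (h1 : rep l q z = z) (h2 : act l z ≠ z) : q ∣ orderOf (ev l) := by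
  set g := ev l
  set Z : J4Rep.Vec := ⟨z, hz⟩
  have hfix : img (g ^ q) Z = Z := Subtype.ext (by rw [← rep_eq l hl q Z]; exact h1)
  have hmv : img g Z ≠ Z := fun e => h2 (by rw [show z = Z.1 from rfl, act_eq l hl Z, e])
  by_contra hd
  have hcop : q.Coprime (orderOf g) := (Nat.Prime.coprime_iff_not_dvd hq).mpr hd
  obtain ⟨m, hm⟩ := exists_pow_eq_self_of_coprime hcop
  apply hmv
  rw [← hm]
  clear hm
  induction m with
  | zero => rw [pow_zero (g ^ q), img_one]
  | succ m ih => rw [pow_succ' (g ^ q) m, img_mul, hfix, ih]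

/-- The element of order 29. -/
noncomputable def gX : Spor.J4 := pe 0

/-- The element of order 28 normalising it. -/
noncomputable def gV : Spor.J4 := pe 1

/-- The element of order 7. -/
noncomputable def gS : Spor.J4 := gV ^ 4

theorem ev_rep (i : ℕ) : ev (List.replicate i 1) = gV ^ i := by
  induction i with
  | zero => rw [pow_zero (gV : Spor.J4)]; rfl
  | succ i ih => rw [List.replicate_succ, ev_cons, ih, pow_succ' (gV : Spor.J4)]; rfl

theorem normal_of_conj {g s : Spor.J4} (a : ℕ) (e : g * s ^ a = s * g) :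
    g ∈ normalizer (zpowers s : Set Spor.J4) := by
  haveI := finite_J4
  have hle : (zpowers s).map (MulAut.conj g⁻¹).toMonoidHom ≤ zpowers s := by
    rw [MonoidHom.map_zpowers, zpowers_le]
    refine mem_zpowers_iff.mpr ⟨a, ?_⟩
    show s ^ (a : ℤ) = g⁻¹ * s * (g⁻¹)⁻¹
    rw [zpow_natCast, inv_inv, mul_assoc, ← e, inv_mul_cancel_left]
  have he := eq_of_le_of_card_ge hle
    (le_of_eq (card_map_of_injective (f := (MulAut.conj g⁻¹).toMonoidHom) (MulAut.conj g⁻¹).injective).symm)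
  rw [← inv_mem_iff, mem_normalizer_iff]
  intro u
  refine ⟨fun hu => hle ⟨u, hu, rfl⟩, fun hu => ?_⟩
  rw [← he] at hu
  obtain ⟨t, ht, e'⟩ := hu
  rwa [← (MulAut.conj g⁻¹).injective e']

theorem base_rels : orderOf gX = 29 ∧ gV ^ 28 = 1 ∧ orderOf gS = 7 ∧
    gV ∈ normalizer (zpowers gX : Set Spor.J4) ∧
    ∀ a ∈ sevExp, a.1 < 5 → pe a.1 ∈ normalizer (zpowers gS : Set Spor.J4) := by
  haveI : Fact (Nat.Prime 29) := ⟨by norm_num⟩
  haveI : Fact (Nat.Prime 7) := ⟨by norm_num⟩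
  have h := base_ok
  simp only [baseOK, Bool.and_eq_true, Bool.not_eq_true', List.all_eq_true] at h
  obtain ⟨⟨⟨⟨⟨h1, h2⟩, h3⟩, h4⟩, h5⟩, h6⟩ := h
  have ok0 := pe_ok (k := 0) (by norm_num)
  have ok1 := pe_ok (k := 1) (by norm_num)
  have hV : gV ^ 28 = 1 := eq_of_leq (J4Eleven.npow_ok ok1 _) MOK.one h3
  refine ⟨orderOf_eq_prime (eq_of_leq (J4Eleven.npow_ok ok0 _) MOK.one h1) (ne_one_of ok0 h2), hV,
    orderOf_eq_prime ?_ (ne_one_of (J4Eleven.npow_ok ok1 _) h4),
    normal_of_conj (g := gV) (s := gX) xExp ?_, fun a ha hk => normal_of_conj a.2 ?_⟩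
  · rw [gS, ← pow_mul]
    exact hV
  · exact (eq_of_leq (ok0.mul ok1) (ok1.mul (J4Eleven.npow_ok ok0 _)) h5).symm
  · rw [gS, ← pow_mul]
    exact eq_of_leq ((pe_ok hk).mul (J4Eleven.npow_ok ok1 _)) ((J4Eleven.npow_ok ok1 _).mul (pe_ok hk)) (h6 a ha)

theorem ev_mem {H : Subgroup Spor.J4} {l : List ℕ} (h : ∀ k ∈ l, pe k ∈ H) : ev l ∈ H :=
  list_prod_mem (fun x hx => by obtain ⟨k, hk, rfl⟩ := List.mem_map.mp hx; exact h k hk)

end Cfsg.Lib.J4Maximal.P29
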